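import Cfsg.Agent.Lib.Helper14.StCC.SectionCore
import Cfsg.Agent.Lib.Helper11.StCCPairing
import Cfsg.Agent.Lib.Helper16.StCCB.Defs

set_option autoImplicit false

/-! S2400, the case `B₂` over the field with three elements (sub-architect helper29).
Central extensions of a group with root elements satisfying (R1), (R2) over `F₃`: pairs of roots
all of whose lifts commute (`LC`).

* `lc_self`: the preimage of a root subgroup (cyclic of order three) is abelian;
* `lc_mixed`: a commuting pair one member of which is inverted and the other centralised by a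
  torus element (the central defect `c` satisfies `c² = 1` and `c³ = 1`);
* `lc_dec`: a commuting pair `(q, s)` with `x_s(w) = ⁅x_b(1)⁻¹, x_a(x)⁻¹⁆`, where `q` strongly
  commutes with `a` and every term of the commutator formula of `(q, b)` strongly commutes with
  `a`. -/

namespace Cfsg.Agent.Lib.Helper29.B2F3

open Cfsg.Lie Cfsg.Agent.Lib.Helper8.Chev Cfsg.Agent.Lib.Helper14.StCC
open Cfsg.Agent.Lib.Helper14.StCC.B Cfsg.Agent.Lib.Helper11.StCCPairing
open scoped commutatorElement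

variable {D : ChevalleyDatum} {K : Type*} [Field K] {Γ : Type*} [Group Γ] {E : Type*} [Group E]

/-- all lifts of `x_r(t)` and `x_s(u)` commute -/
def LC (S : StRep D K Γ) (ψ : E →* Γ) (r s : ℕ) : Prop :=
  ∀ (A B : E) (t u : K), ψ A = S.x r t → ψ B = S.x s u → A * B = B * A

theorem LC.symm {S : StRep D K Γ} {ψ : E →* Γ} {r s : ℕ} (h : LC S ψ r s) : LC S ψ s r :=
  fun A B t u hA hB => (h B A u t hB hA).symm

/-- root elements of `Γ` for an admissible pair without commutator terms commute -/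
theorem x_commute_of_nilP (S : StRep D K Γ) {r a : ℕ} (hn : NilP D r a) (t x : K) :
    Commute (S.x r t) (S.x a x) := by
  obtain ⟨hr, ha, h1, h2, hT⟩ := hn
  have := S.comm r hr a ha h1 h2 t x
  rw [ChevalleyDatum.commWord, hT] at this
  show S.x r t * S.x a x = S.x a x * S.x r t
  simpa using this.symm

theorem lc_of_pr (S : StRep D K Γ) (ψ : E →* Γ) (hψ : Function.Surjective ψ)
    (hc : ψ.ker ≤ Subgroup.center E) {r s : ℕ}
    (h : ∀ t u : K, pr ψ hψ (S.x r t) (S.x s u) = 1) : LC S ψ r s := by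
  intro A B t u hA hB
  have := h t u
  rw [pr_eq ψ hψ hc hA hB, commutatorElement_eq_one_iff_commute] at this
  exact this

/-- over the field with three elements the preimage of a root subgroup is abelian -/
theorem lc_self (S : StRep D K Γ) (ψ : E →* Γ) (hψ : Function.Surjective ψ)
    (hc : ψ.ker ≤ Subgroup.center E) (hK3 : ∀ x : K, x = 0 ∨ x = 1 ∨ x = -1)
    {r : ℕ} (hr : r < D.nroots) : LC S ψ r r := by
  apply lc_of_pr S ψ hψ hc
  intro t u
  have key : ∀ t : K, pr ψ hψ (S.x r t) (S.x r (-t)) = 1 := by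
    intro t
    rw [← S.x_inv hr, pr_inv_right ψ hψ hc (Commute.refl _), pr_self ψ hψ hc, inv_one]
  rcases hK3 t with rfl | rfl | rfl
  · rw [S.x_zero hr, pr_one_left ψ hψ hc]
  · rcases hK3 u with rfl | rfl | rfl
    · rw [S.x_zero hr, pr_one_right ψ hψ hc]
    · exact pr_self ψ hψ hc _
    · exact key 1
  · rcases hK3 u with rfl | rfl | rfl
    · rw [S.x_zero hr, pr_one_right ψ hψ hc]
    · have := key (-1)
      rwa [neg_neg] at this
    · exact pr_self ψ hψ hc _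

/-- a commuting pair `(r, s)`, `r` centralised and `s` inverted by an element `h`, in
characteristic three: all lifts commute -/
theorem lc_mixed (S : StRep D K Γ) (ψ : E →* Γ) (hψ : Function.Surjective ψ)
    (hc : ψ.ker ≤ Subgroup.center E) (h3 : (3 : K) = 0) {r s : ℕ} (hn : NilP D r s)
    (h : Γ) (hr' : ∀ t : K, h * S.x r t * h⁻¹ = S.x r t)
    (hs' : ∀ u : K, h * S.x s u * h⁻¹ = S.x s (-u)) : LC S ψ r s := by
  have hs := hn.2.1
  apply lc_of_pr S ψ hψ hc
  intro t u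
  have hcm : ∀ t u : K, Commute (S.x r t) (S.x s u) := x_commute_of_nilP S hn
  have hcen := pr_mem_center ψ hψ hc (hcm t u)
  -- `c ^ 3 = 1`
  have h3' : pr ψ hψ (S.x r t) (S.x s u) * pr ψ hψ (S.x r t) (S.x s u) *
      pr ψ hψ (S.x r t) (S.x s u) = 1 := by
    rw [← pr_mul_right ψ hψ hc (hcm t u), ← pr_mul_right ψ hψ hc (hcm t u), S.add s hs,
      S.add s hs]
    have : u + u + u = 0 := by linear_combination u * h3
    rw [this, S.x_zero hs, pr_one_right ψ hψ hc]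
  -- `c = c⁻¹`
  obtain ⟨g, hg⟩ := hψ h
  have e1 : g * pr ψ hψ (S.x r t) (S.x s u) * g⁻¹ = pr ψ hψ (S.x r t) (S.x s u) := by
    rw [Subgroup.mem_center_iff.mp hcen g, mul_inv_cancel_right]
  have e2 : g * pr ψ hψ (S.x r t) (S.x s u) * g⁻¹ = (pr ψ hψ (S.x r t) (S.x s u))⁻¹ := by
    rw [conj_pr ψ hψ hc, hg, hr', hs', ← S.x_inv hs, pr_inv_right ψ hψ hc (hcm t u)]
  have e3 : pr ψ hψ (S.x r t) (S.x s u) = (pr ψ hψ (S.x r t) (S.x s u))⁻¹ := e1.symm.trans e2
  have e4 : pr ψ hψ (S.x r t) (S.x s u) * pr ψ hψ (S.x r t) (S.x s u) = 1 := by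
    nth_rewrite 2 [e3]
    rw [mul_inv_cancel]
  rw [e4, one_mul] at h3'
  exact h3'

/-- an element commuting with all lifts of the letters of a word commutes with every lift of the
word -/
theorem commute_of_wS (S : StRep D K Γ) (ψ : E →* Γ) (hψ : Function.Surjective ψ)
    (hc : ψ.ker ≤ Subgroup.center E) (A : E) :
    ∀ (w : List (ℕ × K)), (∀ p ∈ w, ∀ B : E, ψ B = S.x p.1 p.2 → A * B = B * A) →
      ∀ Y : E, ψ Y = wS S.x w → A * Y = Y * A := by
  intro w
  induction w with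
  | nil =>
    intro _ Y hY
    have : Y ∈ Subgroup.center E := hc (by rw [MonoidHom.mem_ker, hY, wS_nil])
    exact (Subgroup.mem_center_iff.mp this A)
  | cons p w ih =>
    intro hw Y hY
    obtain ⟨B, hB⟩ := hψ (S.x p.1 p.2)
    have h1 := hw p List.mem_cons_self B hB
    have h2 := ih (fun q hq => hw q (List.mem_cons_of_mem _ hq)) (B⁻¹ * Y) (by
      rw [map_mul, map_inv, hB, hY, wS_cons, inv_mul_cancel_left])
    calc A * Y = A * B * (B⁻¹ * Y) := by group
      _ = B * (A * (B⁻¹ * Y)) := by rw [h1]; group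
      _ = B * ((B⁻¹ * Y) * A) := by rw [h2]
      _ = Y * A := by group

/-- the generalised commutator trick: `x_s(w) = ⁅x_b(1)⁻¹, x_a(x)⁻¹⁆`, `q` strongly commutes with
`a`, and every term of the commutator formula of `(q, b)` strongly commutes with `a` -/
theorem lc_dec (S : StRep D K Γ) (ψ : E →* Γ) (hψ : Function.Surjective ψ)
    (hc : ψ.ker ≤ Subgroup.center E) {q s a b : ℕ} {N : ℤ}
    (hq : q < D.nroots) (ha : a < D.nroots) (hb : b < D.nroots)
    (hba : b ≠ a) (hbna : b ≠ D.neg a) (hT : D.commTerms a b = [(s, N, 1, 1)])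
    (hN : (N : K) ≠ 0) (hqa : LC S ψ q a) (hbq : b ≠ q) (hbnq : b ≠ D.neg q)
    (hW : ∀ c ∈ D.commTerms q b, LC S ψ c.1 a) : LC S ψ q s := by
  intro Q B' v w hQ hB'
  set x : K := -(w / N) with hx
  -- in `Γ`: `x_s(w) = ⁅x_b(1)⁻¹, x_a(x)⁻¹⁆`
  have hrel := S.comm a ha b hb hba hbna x 1
  rw [ChevalleyDatum.commWord, hT] at hrel
  simp only [List.map_cons, List.map_nil, wS_cons, wS_nil, mul_one, pow_one, one_pow] at hrel
  have hval : (N : K) * -x = w := by
    rw [hx, neg_neg]; field_simp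
  rw [hval] at hrel
  have hxs : S.x s w = ⁅(S.x b 1)⁻¹, (S.x a x)⁻¹⁆ := by
    rw [commutatorElement_def, inv_inv, inv_inv]
    calc S.x s w = (S.x a x * S.x b 1)⁻¹ * (S.x a x * S.x b 1 * S.x s w) := by group
      _ = (S.x a x * S.x b 1)⁻¹ * (S.x b 1 * S.x a x) := by rw [← hrel]
      _ = _ := by group
  obtain ⟨Bm, hBm⟩ := hψ (S.x b 1)⁻¹
  obtain ⟨A, hA⟩ := hψ (S.x a x)⁻¹
  have hQA : Q * A = A * Q := hqa Q A v (-x) hQ (by rw [hA, S.x_inv ha])
  -- `Y := Bm⁻¹ Q⁻¹ Bm Q` maps to the commutator word of `(q, b)`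
  have hY : ψ (Bm⁻¹ * Q⁻¹ * Bm * Q) = wS S.x (D.commWord K q b v (-1)) := by
    rw [map_mul, map_mul, map_mul, map_inv, map_inv, hBm, hQ, S.x_inv hb]
    have := S.comm q hq b hb hbq hbnq v (-1)
    calc (S.x b (-1))⁻¹ * (S.x q v)⁻¹ * S.x b (-1) * S.x q v
        = (S.x q v * S.x b (-1))⁻¹ * (S.x b (-1) * S.x q v) := by group
      _ = _ := by rw [this]; group
  have hYA : A * (Bm⁻¹ * Q⁻¹ * Bm * Q) = (Bm⁻¹ * Q⁻¹ * Bm * Q) * A := by
    apply commute_of_wS S ψ hψ hc A _ _ _ hY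
    intro p hp B hB
    unfold ChevalleyDatum.commWord at hp
    obtain ⟨c, hc', rfl⟩ := List.mem_map.mp hp
    exact (hW c hc' B A _ (-x) hB (by rw [hA, S.x_inv ha])).symm
  set Y : E := Bm⁻¹ * Q⁻¹ * Bm * Q with hYdef
  have key : Q⁻¹ * ⁅Bm, A⁆ * Q = ⁅Bm, A⁆ := by
    have e1 : Q⁻¹ * Bm * Q = Bm * Y := by rw [hYdef]; group
    have e2 : Q⁻¹ * A * Q = A := by
      calc Q⁻¹ * A * Q = Q⁻¹ * (A * Q) := by group
        _ = Q⁻¹ * (Q * A) := by rw [hQA]
        _ = A := by group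
    have e3 : ⁅Y, A⁆ = 1 := by
      rw [commutatorElement_eq_one_iff_commute]
      exact hYA.symm
    calc Q⁻¹ * ⁅Bm, A⁆ * Q = ⁅Q⁻¹ * Bm * Q, Q⁻¹ * A * Q⁆ := by
          simp only [commutatorElement_def]; group
      _ = ⁅Bm * Y, A⁆ := by rw [e1, e2]
      _ = Bm * ⁅Y, A⁆ * Bm⁻¹ * ⁅Bm, A⁆ := by simp only [commutatorElement_def]; group
      _ = ⁅Bm, A⁆ := by rw [e3]; group
  have hz : ⁅Bm, A⁆⁻¹ * B' ∈ Subgroup.center E := hc (by
    rw [MonoidHom.mem_ker, map_mul, map_inv, map_commutatorElement, hBm, hA, ← hxs, hB',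
      inv_mul_cancel])
  have hz' := Subgroup.mem_center_iff.mp hz Q
  have key' : Q * ⁅Bm, A⁆ = ⁅Bm, A⁆ * Q := by
    calc Q * ⁅Bm, A⁆ = Q * (Q⁻¹ * ⁅Bm, A⁆ * Q) := by rw [key]
      _ = ⁅Bm, A⁆ * Q := by group
  calc Q * B' = Q * ⁅Bm, A⁆ * (⁅Bm, A⁆⁻¹ * B') := by group
    _ = ⁅Bm, A⁆ * (Q * (⁅Bm, A⁆⁻¹ * B')) := by rw [key']; group
    _ = ⁅Bm, A⁆ * ((⁅Bm, A⁆⁻¹ * B') * Q) := by rw [hz']
    _ = B' * Q := by group

end Cfsg.Agent.Lib.Helper29.B2F3
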