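import Cfsg.Agent.Lib.Helper29.B2F3.Two

set_option autoImplicit false

/-! S2400, the case `B₂` over the field with three elements (sub-architect helper29): every
central extension of the group of type `B₂` presented by (R1), (R2) over `F₃` splits. -/

namespace Cfsg.Agent.Lib.Helper29.B2F3

open Cfsg.Lie Cfsg.Agent.Lib.Helper8.Chev Cfsg.Agent.Lib.Helper14.StCC
open Cfsg.Agent.Lib.Helper14.StCC.B Cfsg.Agent.Lib.Helper11.StCCPairing
open scoped commutatorElement

variable {D : ChevalleyDatum} {K : Type*} [Field K] {Γ : Type*} [Group Γ] {E : Type*} [Group E]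

section all

variable (S : StRep D K Γ) (ψ : E →* Γ) (hψ : Function.Surjective ψ)
  (hc : ψ.ker ≤ Subgroup.center E) (hK3 : ∀ x : K, x = 0 ∨ x = 1 ∨ x = -1) (h3 : (3 : K) = 0)
  (sh : ℕ → Bool) (h : Γ)
  (hh : ∀ s < D.nroots, ∀ u : K, h * S.x s u * h⁻¹ = S.x s (if sh s = true then -u else u))
  (da db : ℕ → ℕ) (dN : ℕ → ℤ)
  (hdec : ∀ s < D.nroots, sh s = false → DecOK D sh s (da s) (db s) (dN s))
  (hnilcl : ∀ r s : ℕ, NilP D r s → NilOK D sh r s)
  (hcls : ∀ r s : ℕ, r < D.nroots → s < D.nroots → s ≠ r → s ≠ D.neg r →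
    NilP D r s ∨ OneP' D sh da db dN r s ∨ TwoP D sh r s ∨ TwoP' D sh r s)

include hc hK3 h3 hh hdec hnilcl hcls in
/-- (R2) for all admissible pairs -/
theorem r2_all : ∀ r < D.nroots, ∀ s < D.nroots, s ≠ r → s ≠ D.neg r →
    R2 D K (phi S ψ hψ sh h da db dN) r s := by
  have hnil := lc_nil S ψ hψ hc hK3 h3 sh h hh hnilcl
  have hone : ∀ a b : ℕ, OneP' D sh da db dN a b → R2 D K (phi S ψ hψ sh h da db dN) a b :=
    fun a b ho => r2_one S ψ hψ hc hK3 h3 sh h hh da db dN hdec hnil ho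
  have hcl : ∀ a b : ℕ, a < D.nroots → b < D.nroots → b ≠ a → b ≠ D.neg a →
      (∃ q C, D.commTerms a b = [(q, C, 1, 1)]) → OneP' D sh da db dN a b := by
    intro a b ha hb h1 h2 ⟨q, C, hT⟩
    rcases hcls a b ha hb h1 h2 with hn | ho | htw | htw
    · rw [hn.2.2.2.2] at hT
      exact absurd hT (by simp)
    · exact ho
    · obtain ⟨-, -, p, -, q', -, C1, -, C2, -, M, -, hT', -⟩ := htw
      rw [hT'] at hT
      exact absurd hT (by simp)
    · obtain ⟨-, -, -, -, p, -, q', -, C1, -, C2, -, hT', -⟩ := htw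
      rw [hT'] at hT
      exact absurd hT (by simp)
  intro r hr s hs h1 h2
  rcases hcls r s hr hs h1 h2 with hn | ho | htw | htw
  · intro t u
    exact rel_nil S ψ hψ h3 sh h hh da db dN hdec hnil hn t u
  · exact hone r s ho
  · exact r2_two S ψ hψ hc hK3 h3 sh h hh da db dN hdec hnil hr hs h1 h2 htw hone hcl
  · have htw' := htw.2.2.2.1
    have hne := htw.2.2.1
    exact r2_two' S ψ hψ hc hK3 h3 sh h hh da db dN hdec hnil hr hs htw
      (r2_two S ψ hψ hc hK3 h3 sh h hh da db dN hdec hnil hs hr h1.symm hne htw' hone hcl)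

end all

/-- lifts of the root elements satisfying (R1) and (R2) give a section (copy of helper10's
`exists_section_of_lifts`) -/
theorem section_of_lifts
    (hD : D ∈ [chevG2, chevB2, chevD4, chevF4, chevE6, chevE7, chevE8])
    (ψ : E →* D.SteinbergCover K) (φ : ℕ → K → E)
    (hmap : ∀ r < D.nroots, ∀ t : K, ψ (φ r t) = D.scGen K r t)
    (hadd : ∀ r < D.nroots, ∀ t u : K, φ r t * φ r u = φ r (t + u))
    (hcomm : ∀ r < D.nroots, ∀ s < D.nroots, s ≠ r → s ≠ D.neg r → ∀ t u : K,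
      φ s u * φ r t = φ r t * φ s u * wS φ (D.commWord K r s t u)) :
    ∃ τ : D.SteinbergCover K →* E, ψ.comp τ = MonoidHom.id _ := by
  have V := valid0_of_mem hD
  have hrel : ∀ g ∈ D.steinbergRelsAB K,
      FreeGroup.lift (fun a : Fin D.nroots × K => φ a.1.val a.2) g = 1 := by
    rintro g (⟨r, t₁, t₂, hr, rfl⟩ | ⟨r, s, t, u, hr, hs, h1, h2, rfl⟩)
    · rw [map_mul, map_mul, map_inv, lift_stX_of φ hr, lift_stX_of φ hr, lift_stX_of φ hr,
        hadd r hr, mul_inv_cancel]
    · have hw : ∀ p ∈ D.commWord K r s t u, p.1 < D.nroots := by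
        intro p hp
        unfold ChevalleyDatum.commWord at hp
        obtain ⟨c, hc', rfl⟩ := List.mem_map.mp hp
        exact commTerms_lt V hr hs c hc'
      rw [map_mul, map_mul, map_mul, map_mul, map_inv, map_inv, map_inv,
        lift_stWord_of φ _ hw, lift_stX_of φ hr, lift_stX_of φ hs]
      have e := hcomm r hr s hs h1 h2 t u
      have e' : wS φ (D.commWord K r s t u) = (φ r t * φ s u)⁻¹ * (φ s u * φ r t) := by
        rw [e]; group
      rw [e']
      group
  refine ⟨PresentedGroup.toGroup hrel, ?_⟩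
  apply PresentedGroup.ext
  intro a
  rw [MonoidHom.comp_apply, PresentedGroup.toGroup.of, MonoidHom.id_apply]
  have := hmap a.1.val a.1.isLt a.2
  rw [this]
  show D.scGen K a.1.val a.2 = _
  unfold ChevalleyDatum.scGen ChevalleyDatum.stX PresentedGroup.of
  rw [dif_pos a.1.isLt]

/-! ### the tables of `B₂` -/

/-- the short roots of `chevB2` -/
def shB2 (r : ℕ) : Bool := r == 1 || r == 2 || r == 5 || r == 6

def daB2 (s : ℕ) : ℕ := if s = 0 then 1 else if s = 3 then 1 else if s = 4 then 2 else 5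

def dbB2 (s : ℕ) : ℕ := if s = 0 then 2 else if s = 3 then 5 else if s = 4 then 6 else 6

def dNB2 (s : ℕ) : ℤ := if s = 0 then 2 else if s = 3 then -2 else if s = 4 then -2 else 2

instance (D : ChevalleyDatum) (a b : ℕ) : Decidable (NilP D a b) := by
  unfold NilP; infer_instance

instance (D : ChevalleyDatum) (sh : ℕ → Bool) (s a b : ℕ) (N : ℤ) :
    Decidable (DecOK D sh s a b N) := by
  unfold DecOK; infer_instance

instance (D : ChevalleyDatum) (sh : ℕ → Bool) (da db : ℕ → ℕ) (dN : ℕ → ℤ) (r s : ℕ) :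
    Decidable (OneP' D sh da db dN r s) := by
  unfold OneP'; infer_instance

set_option synthInstance.maxSize 1024 in
set_option synthInstance.maxHeartbeats 200000 in
instance (D : ChevalleyDatum) (sh : ℕ → Bool) (r s : ℕ) : Decidable (TwoP D sh r s) := by
  unfold TwoP; infer_instance

instance (D : ChevalleyDatum) (sh : ℕ → Bool) (r s : ℕ) : Decidable (TwoP' D sh r s) := by
  unfold TwoP'; infer_instance

instance (D : ChevalleyDatum) (sh : ℕ → Bool) (r s : ℕ) : Decidable (LLP D sh r s) := by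
  unfold LLP; infer_instance

instance (D : ChevalleyDatum) (sh : ℕ → Bool) (r s : ℕ) : Decidable (NilOK D sh r s) := by
  unfold NilOK; infer_instance

theorem nroots_B2 : chevB2.nroots = 8 := by decide

theorem decOK_B2 : ∀ s < 8, shB2 s = false → DecOK chevB2 shB2 s (daB2 s) (dbB2 s) (dNB2 s) := by
  decide +kernel

theorem nilOK_B2 : ∀ r < 8, ∀ s < 8, NilP chevB2 r s → NilOK chevB2 shB2 r s := by
  decide +kernel

set_option synthInstance.maxSize 1024 in
set_option synthInstance.maxHeartbeats 200000 in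
theorem cls_B2 : ∀ r < 8, ∀ s < 8, s ≠ r → s ≠ chevB2.neg r →
    NilP chevB2 r s ∨ OneP' chevB2 shB2 daB2 dbB2 dNB2 r s ∨ TwoP chevB2 shB2 r s ∨
      TwoP' chevB2 shB2 r s := by
  decide +kernel

/-- the coweight of the torus element inverting the short root elements -/
def mB2 (i : ℕ) : ℤ := if i = 1 then 1 else 0

theorem wt_B2 : ∀ s < 8,
    (shB2 s = true → (wt chevB2 mB2 s = 1 ∨ wt chevB2 mB2 s = -1)) ∧
    (shB2 s = false → (wt chevB2 mB2 s = 0 ∨ wt chevB2 mB2 s = 2 ∨ wt chevB2 mB2 s = -2)) := by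
  decide +kernel

theorem field3_facts {K : Type*} [Field K] [Fintype K] (hK : Fintype.card K = 3) :
    (∀ x : K, x = 0 ∨ x = 1 ∨ x = -1) ∧ (3 : K) = 0 := by
  have h3 : (3 : K) = 0 := by
    have := FiniteField.cast_card_eq_zero K
    rw [hK] at this
    exact_mod_cast this
  refine ⟨fun x => ?_, h3⟩
  have hx := FiniteField.pow_card x
  rw [hK] at hx
  have h0 : x * ((x - 1) * (x + 1)) = 0 := by linear_combination hx
  rcases mul_eq_zero.mp h0 with h | h
  · exact Or.inl h
  · rcases mul_eq_zero.mp h with h | h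
    · exact Or.inr (Or.inl (sub_eq_zero.mp h))
    · exact Or.inr (Or.inr (eq_neg_of_add_eq_zero_left h))

/-- every central extension of the group of type `B₂` presented by (R1), (R2) over the field with
three elements splits -/
theorem exists_section_B2_three {K : Type*} [Field K] [Fintype K] (hK : Fintype.card K = 3)
    {E : Type*} [Group E] (ψ : E →* chevB2.SteinbergCover K)
    (hψ : Function.Surjective ψ) (hc : ψ.ker ≤ Subgroup.center E) :
    ∃ τ : chevB2.SteinbergCover K →* E, ψ.comp τ = MonoidHom.id _ := by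
  have hD : chevB2 ∈ [chevG2, chevB2, chevD4, chevF4, chevE6, chevE7, chevE8] := by simp
  obtain ⟨hK3, h3⟩ := field3_facts hK
  set S := scRepOf hD (scHom hD K) (fun r t hr => scHom_scGen hD r t hr) with hS
  have hneg1 : (-1 : K) ≠ 0 := by simp
  obtain ⟨h, -, hh0⟩ := exists_torus S mB2 hneg1
  have h8 : ∀ {s : ℕ}, s < chevB2.nroots → s < 8 := fun hs => nroots_B2 ▸ hs
  have hh : ∀ s < chevB2.nroots, ∀ u : K,
      h * S.x s u * h⁻¹ = S.x s (if shB2 s = true then -u else u) := by
    intro s hs u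
    rw [hh0 s hs u]
    congr 1
    obtain ⟨w1, w2⟩ := wt_B2 s (h8 hs)
    by_cases hsh : shB2 s = true
    · rw [if_pos hsh]
      rcases w1 hsh with e | e <;> rw [e] <;> simp
    · rw [if_neg hsh]
      rcases w2 (by simpa using hsh) with e | e | e <;> rw [e] <;> simp [zpow_neg]
  have hdec : ∀ s < chevB2.nroots, shB2 s = false →
      DecOK chevB2 shB2 s (daB2 s) (dbB2 s) (dNB2 s) := fun s hs => decOK_B2 s (h8 hs)
  have hnilcl : ∀ r s : ℕ, NilP chevB2 r s → NilOK chevB2 shB2 r s :=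
    fun r s hn => nilOK_B2 r (h8 hn.1) s (h8 hn.2.1) hn
  have hcls : ∀ r s : ℕ, r < chevB2.nroots → s < chevB2.nroots → s ≠ r → s ≠ chevB2.neg r →
      NilP chevB2 r s ∨ OneP' chevB2 shB2 daB2 dbB2 dNB2 r s ∨ TwoP chevB2 shB2 r s ∨
        TwoP' chevB2 shB2 r s := fun r s hr hs => cls_B2 r (h8 hr) s (h8 hs)
  have hnil := lc_nil S ψ hψ hc hK3 h3 shB2 h hh hnilcl
  apply section_of_lifts hD ψ (phi S ψ hψ shB2 h daB2 dbB2 dNB2)
  · intro r hr t
    exact phi_map S ψ hψ h3 shB2 h hh daB2 dbB2 dNB2 hdec hr t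
  · intro r hr t u
    exact phi_add S ψ hψ hc hK3 h3 shB2 h hh daB2 dbB2 dNB2 hdec hnil hr t u
  · intro r hr s hs h1 h2 t u
    exact r2_all S ψ hψ hc hK3 h3 shB2 h hh daB2 dbB2 dNB2 hdec hnilcl hcls r hr s hs h1 h2 t u

end Cfsg.Agent.Lib.Helper29.B2F3
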