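import Mathlib

set_option autoImplicit false

/-! S2400, the case `B₂` over the field with three elements: the relation (R2) for a pair
(long root `r`, short root `s`) with two commutator terms, pure group theory.  The central defect
`z(t, u)` of the relation is additive in `u` (because `u ↦ φ_s(u) W(t, u)` is additive) and even in
`u` (conjugation by a lift of the torus element inverting the short root elements), hence
`z² = 1 = z³`. -/

namespace Cfsg.Agent.Lib.Helper29.B2F3

variable {K E : Type*} [Field K] [Group E]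

theorem map_zero_of_add (f : K → E) (hf : ∀ x y : K, f x * f y = f (x + y)) : f 0 = 1 := by
  have := hf 0 0
  rw [add_zero] at this
  exact mul_eq_left.mp this

theorem two_term_core (h3 : (3 : K) = 0)
    (fr fs fp fq : K → E) (g : E)
    (adds : ∀ x y : K, fs x * fs y = fs (x + y)) (addp : ∀ x y : K, fp x * fp y = fp (x + y))
    (addq : ∀ x y : K, fq x * fq y = fq (x + y))
    (cqs : ∀ x y : K, fq x * fs y = fs y * fq x) (cqp : ∀ x y : K, fq x * fp y = fp y * fq x)
    (C1 C2 M : K) (hM : M * C1 = -2 * C2)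
    (rel : ∀ u x : K, fp x * fs u = fs u * fp x * fq (M * (-u) * x))
    (hz : ∀ t u : K, (fr t * fs u * (fp (C1 * (-t) * u) * fq (C2 * (-t) * u ^ 2)))⁻¹ *
      (fs u * fr t) ∈ Subgroup.center E)
    (gr : ∀ t : K, g * fr t * g⁻¹ = fr t) (gs : ∀ u : K, g * fs u * g⁻¹ = fs (-u))
    (gp : ∀ x : K, g * fp x * g⁻¹ = fp (-x)) (gq : ∀ y : K, g * fq y * g⁻¹ = fq y) (t u : K) :
    fs u * fr t = fr t * fs u * (fp (C1 * (-t) * u) * fq (C2 * (-t) * u ^ 2)) := by
  set Mt : K → E := fun u => fs u * (fp (C1 * (-t) * u) * fq (C2 * (-t) * u ^ 2)) with hMt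
  set z : K → E := fun u => (fr t * Mt u)⁻¹ * (fs u * fr t) with hzdef
  have hzc : ∀ u : K, z u ∈ Subgroup.center E := by
    intro u
    have := hz t u
    rw [mul_assoc (fr t)] at this
    exact this
  have zc : ∀ (u : K) (e : E), e * z u = z u * e := fun u e =>
    Subgroup.mem_center_iff.mp (hzc u) e
  -- (1)
  have h1 : ∀ u : K, (fr t)⁻¹ * fs u * fr t = Mt u * z u := by
    intro u
    simp only [hzdef]
    group
  -- (3) `Mt` is additive
  have hM3 : ∀ u u' : K, Mt u * Mt u' = Mt (u + u') := by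
    intro u u'
    simp only [hMt]
    have e1 := cqs (C2 * (-t) * u ^ 2) u'
    have e2 := rel u' (C1 * (-t) * u)
    have e3 := cqp (M * (-u') * (C1 * (-t) * u) + C2 * (-t) * u ^ 2) (C1 * (-t) * u')
    calc fs u * (fp (C1 * (-t) * u) * fq (C2 * (-t) * u ^ 2)) *
          (fs u' * (fp (C1 * (-t) * u') * fq (C2 * (-t) * u' ^ 2)))
        = fs u * fp (C1 * (-t) * u) * (fq (C2 * (-t) * u ^ 2) * fs u') *
          (fp (C1 * (-t) * u') * fq (C2 * (-t) * u' ^ 2)) := by group
      _ = fs u * (fp (C1 * (-t) * u) * fs u') * fq (C2 * (-t) * u ^ 2) *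
          (fp (C1 * (-t) * u') * fq (C2 * (-t) * u' ^ 2)) := by rw [e1]; group
      _ = fs u * fs u' * fp (C1 * (-t) * u) *
          (fq (M * (-u') * (C1 * (-t) * u)) * fq (C2 * (-t) * u ^ 2)) *
          (fp (C1 * (-t) * u') * fq (C2 * (-t) * u' ^ 2)) := by rw [e2]; group
      _ = fs (u + u') * fp (C1 * (-t) * u) *
          (fq (M * (-u') * (C1 * (-t) * u) + C2 * (-t) * u ^ 2) * fp (C1 * (-t) * u')) *
          fq (C2 * (-t) * u' ^ 2) := by rw [adds, addq]; group
      _ = fs (u + u') * (fp (C1 * (-t) * u) * fp (C1 * (-t) * u')) *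
          (fq (M * (-u') * (C1 * (-t) * u) + C2 * (-t) * u ^ 2) *
          fq (C2 * (-t) * u' ^ 2)) := by rw [e3]; group
      _ = fs (u + u') * (fp (C1 * (-t) * (u + u')) * fq (C2 * (-t) * (u + u') ^ 2)) := by
          rw [addp, addq]
          have a1 : C1 * (-t) * u + C1 * (-t) * u' = C1 * (-t) * (u + u') := by ring
          have a2 : M * (-u') * (C1 * (-t) * u) + C2 * (-t) * u ^ 2 + C2 * (-t) * u' ^ 2 =
              C2 * (-t) * (u + u') ^ 2 := by linear_combination (t * u * u') * hM
          rw [a1, a2, mul_assoc]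
  -- (4) `z` is additive
  have h4 : ∀ u u' : K, z (u + u') = z u * z u' := by
    intro u u'
    have a1 : Mt (u + u') * z (u + u') = Mt u * z u * (Mt u' * z u') := by
      rw [← h1, ← h1, ← h1, ← adds]
      group
    have a2 : Mt u * z u * (Mt u' * z u') = Mt (u + u') * (z u * z u') := by
      rw [← hM3]
      calc Mt u * z u * (Mt u' * z u') = Mt u * (z u * Mt u') * z u' := by group
        _ = Mt u * (Mt u' * z u) * z u' := by rw [← zc u (Mt u')]
        _ = _ := by group
    rw [a2] at a1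
    exact mul_left_cancel a1
  -- (5) `z` is even
  have h5 : ∀ u : K, z (-u) = z u := by
    intro u
    have e : g * z u * g⁻¹ = z (-u) := by
      simp only [hzdef, hMt]
      have : g * ((fr t * (fs u * (fp (C1 * (-t) * u) * fq (C2 * (-t) * u ^ 2))))⁻¹ *
          (fs u * fr t)) * g⁻¹ =
          ((g * fr t * g⁻¹) * ((g * fs u * g⁻¹) * ((g * fp (C1 * (-t) * u) * g⁻¹) *
            (g * fq (C2 * (-t) * u ^ 2) * g⁻¹))))⁻¹ *
          ((g * fs u * g⁻¹) * (g * fr t * g⁻¹)) := by group
      rw [this, gr, gs, gp, gq]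
      have a1 : -(C1 * (-t) * u) = C1 * (-t) * (-u) := by ring
      have a2 : C2 * (-t) * u ^ 2 = C2 * (-t) * (-u) ^ 2 := by ring
      rw [a1, a2]
    rw [← e, zc u g, mul_inv_cancel_right]
  -- (6)
  have h6 : z 0 = 1 := by
    simp only [hzdef, hMt]
    rw [map_zero_of_add fs adds, mul_zero, map_zero_of_add fp addp]
    have : C2 * (-t) * (0 : K) ^ 2 = 0 := by ring
    rw [this, map_zero_of_add fq addq]
    group
  -- (7)
  have h7 : z u * z u = 1 := by
    have := h4 u (-u)
    rw [add_neg_cancel, h6, h5] at this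
    exact this.symm
  have h8 : z u * z u * z u = 1 := by
    rw [← h4, ← h4]
    have : u + u + u = 0 := by linear_combination u * h3
    rw [this, h6]
  rw [h7, one_mul] at h8
  have h9 : fs u * fr t = fr t * Mt u * z u := by
    simp only [hzdef]
    group
  rw [h9, h8, mul_one, mul_assoc]

end Cfsg.Agent.Lib.Helper29.B2F3
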