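import Cfsg.Agent.Lib.Helper29.B2F3.LC
import Cfsg.Agent.Lib.Helper29.B2F3.TwoTerm

set_option autoImplicit false

/-! S2400, the case `B₂` over the field with three elements: the lifts `φ r t` of the root
elements.  Short roots (inverted by the torus element `h`): `φ r t = ⁅h̃, x̃_r(t)⁆`.  Long roots `s`
with a decomposition `s = a + b` into orthogonal short roots, `[x_a, x_b] = x_s(N · ·)`:
`φ s w = ⁅x̃_b(1)⁻¹, x̃_a(-w/N)⁻¹⁆`. -/

namespace Cfsg.Agent.Lib.Helper29.B2F3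

open Cfsg.Lie Cfsg.Agent.Lib.Helper8.Chev Cfsg.Agent.Lib.Helper14.StCC
open Cfsg.Agent.Lib.Helper14.StCC.B Cfsg.Agent.Lib.Helper11.StCCPairing
open scoped commutatorElement

variable {D : ChevalleyDatum} {K : Type*} [Field K] {Γ : Type*} [Group Γ] {E : Type*} [Group E]

/-- the pairing `P(y, x) = ⁅x̃_b(y)⁻¹, x̃_a(x)⁻¹⁆` -/
noncomputable def pP (S : StRep D K Γ) (ψ : E →* Γ) (hψ : Function.Surjective ψ) (a b : ℕ)
    (y x : K) : E :=
  pr ψ hψ (S.x b y)⁻¹ (S.x a x)⁻¹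

section pP

variable (S : StRep D K Γ) (ψ : E →* Γ) (hψ : Function.Surjective ψ)
  (hc : ψ.ker ≤ Subgroup.center E) {s a b : ℕ} {N : ℤ}
  (ha : a < D.nroots) (hb : b < D.nroots) (hba : b ≠ a) (hbna : b ≠ D.neg a)
  (hT : D.commTerms a b = [(s, N, 1, 1)])

include ha hb hba hbna hT in
theorem map_pP (y x : K) : ψ (pP S ψ hψ a b y x) = S.x s ((N : K) * (-x) * y) := by
  unfold pP
  rw [map_pr]
  have hrel := S.comm a ha b hb hba hbna x y
  rw [ChevalleyDatum.commWord, hT] at hrel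
  simp only [List.map_cons, List.map_nil, wS_cons, wS_nil, mul_one, pow_one] at hrel
  rw [commutatorElement_def, inv_inv, inv_inv]
  calc (S.x b y)⁻¹ * (S.x a x)⁻¹ * S.x b y * S.x a x
      = (S.x a x * S.x b y)⁻¹ * (S.x b y * S.x a x) := by group
    _ = (S.x a x * S.x b y)⁻¹ * (S.x a x * S.x b y * S.x s ((N : K) * (-x) * y)) := by rw [hrel]
    _ = _ := by group

include hc ha hb hba hbna hT in
/-- additivity in the second variable -/
theorem pP_add_right (hs : s < D.nroots) (has : LC S ψ a s) (y x x' : K) :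
    pP S ψ hψ a b y (x + x') = pP S ψ hψ a b y x * pP S ψ hψ a b y x' := by
  unfold pP
  obtain ⟨A, hA⟩ := hψ (S.x a x)⁻¹
  have e : (S.x a (x + x'))⁻¹ = (S.x a x)⁻¹ * (S.x a x')⁻¹ := by
    rw [← S.add a ha, mul_inv_rev, S.x_inv ha, S.x_inv ha, S.add a ha, S.add a ha, add_comm]
  rw [e, pr_mul_right' ψ hψ hc _ _ _ hA]
  congr 1
  have h1 := has A (pr ψ hψ (S.x b y)⁻¹ (S.x a x')⁻¹) (-x) _ (by rw [hA, S.x_inv ha])
    (map_pP S ψ hψ ha hb hba hbna hT y x')
  rw [h1, mul_inv_cancel_right]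

include hc ha hb hba hbna hT in
/-- additivity in the first variable -/
theorem pP_add_left (hs : s < D.nroots) (hbs : LC S ψ b s) (hss : LC S ψ s s) (y y' x : K) :
    pP S ψ hψ a b (y + y') x = pP S ψ hψ a b y x * pP S ψ hψ a b y' x := by
  unfold pP
  obtain ⟨B, hB⟩ := hψ (S.x b y)⁻¹
  have e : (S.x b (y + y'))⁻¹ = (S.x b y)⁻¹ * (S.x b y')⁻¹ := by
    rw [← S.add b hb, mul_inv_rev, S.x_inv hb, S.x_inv hb, S.add b hb, S.add b hb, add_comm]
  rw [e, pr_mul_left' ψ hψ hc _ _ _ hB]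
  have h1 := hbs B (pr ψ hψ (S.x b y')⁻¹ (S.x a x)⁻¹) (-y) _ (by rw [hB, S.x_inv hb])
    (map_pP S ψ hψ ha hb hba hbna hT y' x)
  rw [h1, mul_inv_cancel_right]
  exact hss _ _ _ _ (map_pP S ψ hψ ha hb hba hbna hT y' x) (map_pP S ψ hψ ha hb hba hbna hT y x)

include hc ha hb in
theorem pP_zero_left (x : K) : pP S ψ hψ a b 0 x = 1 := by
  unfold pP
  rw [S.x_zero hb, inv_one, pr_one_left ψ hψ hc]

include hc ha hb in
theorem pP_zero_right (y : K) : pP S ψ hψ a b y 0 = 1 := by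
  unfold pP
  rw [S.x_zero ha, inv_one, pr_one_right ψ hψ hc]

include hc ha hb hba hbna hT in
theorem pP_neg_right (hs : s < D.nroots) (has : LC S ψ a s) (y x : K) :
    pP S ψ hψ a b y (-x) = (pP S ψ hψ a b y x)⁻¹ := by
  have := pP_add_right S ψ hψ hc ha hb hba hbna hT hs has y x (-x)
  rw [add_neg_cancel, pP_zero_right S ψ hψ hc ha hb] at this
  exact eq_inv_of_mul_eq_one_right this.symm

include hc ha hb hba hbna hT in
theorem pP_neg_left (hs : s < D.nroots) (hbs : LC S ψ b s) (hss : LC S ψ s s) (y x : K) :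
    pP S ψ hψ a b (-y) x = (pP S ψ hψ a b y x)⁻¹ := by
  have := pP_add_left S ψ hψ hc ha hb hba hbna hT hs hbs hss y (-y) x
  rw [add_neg_cancel, pP_zero_left S ψ hψ hc ha hb] at this
  exact eq_inv_of_mul_eq_one_right this.symm

include hc ha hb hba hbna hT in
/-- over the field with three elements `P(y, x) = P(1, x y)` -/
theorem pP_eq (hK3 : ∀ x : K, x = 0 ∨ x = 1 ∨ x = -1) (hs : s < D.nroots)
    (has : LC S ψ a s) (hbs : LC S ψ b s) (hss : LC S ψ s s) (y x : K) :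
    pP S ψ hψ a b y x = pP S ψ hψ a b 1 (x * y) := by
  rcases hK3 y with rfl | rfl | rfl
  · rw [mul_zero, pP_zero_left S ψ hψ hc ha hb, pP_zero_right S ψ hψ hc ha hb]
  · rw [mul_one]
  · rw [pP_neg_left S ψ hψ hc ha hb hba hbna hT hs hbs hss, mul_neg, mul_one,
      pP_neg_right S ψ hψ hc ha hb hba hbna hT hs has]

end pP

/-- the lifts -/
noncomputable def phi (S : StRep D K Γ) (ψ : E →* Γ) (hψ : Function.Surjective ψ)
    (sh : ℕ → Bool) (h : Γ) (da db : ℕ → ℕ) (dN : ℕ → ℤ) (r : ℕ) (t : K) : E :=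
  if sh r = true then pr ψ hψ h (S.x r t)
  else pP S ψ hψ (da r) (db r) 1 (-(t / dN r))

/-- the decomposition data `(a, b, N)` of a long root `s` -/
def DecOK (D : ChevalleyDatum) (sh : ℕ → Bool) (s a b : ℕ) (N : ℤ) : Prop :=
  a < D.nroots ∧ b < D.nroots ∧ b ≠ a ∧ b ≠ D.neg a ∧ D.commTerms a b = [(s, N, 1, 1)] ∧
    (N = 2 ∨ N = -2) ∧ sh a = true ∧ sh b = true ∧ NilP D s a ∧ NilP D s b

theorem two_ne_zero_of_three {K : Type*} [Field K] (h3 : (3 : K) = 0) : (2 : K) ≠ 0 := by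
  intro h2
  have : (1 : K) = 0 := by linear_combination h3 - h2
  exact one_ne_zero this

theorem cast_ne_zero_of {K : Type*} [Field K] (h3 : (3 : K) = 0) {N : ℤ} (hN : N = 2 ∨ N = -2) :
    (N : K) ≠ 0 := by
  have h2 := two_ne_zero_of_three h3
  rcases hN with rfl | rfl
  · simpa using h2
  · simpa using h2

section phi

variable (S : StRep D K Γ) (ψ : E →* Γ) (hψ : Function.Surjective ψ)
  (hc : ψ.ker ≤ Subgroup.center E) (hK3 : ∀ x : K, x = 0 ∨ x = 1 ∨ x = -1) (h3 : (3 : K) = 0)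
  (sh : ℕ → Bool) (h : Γ)
  (hh : ∀ s < D.nroots, ∀ u : K, h * S.x s u * h⁻¹ = S.x s (if sh s = true then -u else u))
  (da db : ℕ → ℕ) (dN : ℕ → ℤ)
  (hdec : ∀ s < D.nroots, sh s = false → DecOK D sh s (da s) (db s) (dN s))

include h3 hh in
theorem phi_map_short {r : ℕ} (hr : r < D.nroots) (hs : sh r = true) (t : K) :
    ψ (phi S ψ hψ sh h da db dN r t) = S.x r t := by
  unfold phi
  rw [if_pos hs, map_pr, commutatorElement_def, hh r hr, if_pos hs, S.x_inv hr, S.add r hr]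
  congr 1
  linear_combination (-t) * h3

include h3 hdec in
theorem phi_map_long {r : ℕ} (hr : r < D.nroots) (hs : sh r = false) (t : K) :
    ψ (phi S ψ hψ sh h da db dN r t) = S.x r t := by
  obtain ⟨ha, hb, hba, hbna, hT, hN, -, -, -, -⟩ := hdec r hr hs
  unfold phi
  rw [if_neg (by rw [hs]; simp), map_pP S ψ hψ ha hb hba hbna hT]
  congr 1
  have := cast_ne_zero_of h3 hN
  field_simp

include h3 hh hdec in
theorem phi_map {r : ℕ} (hr : r < D.nroots) (t : K) :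
    ψ (phi S ψ hψ sh h da db dN r t) = S.x r t := by
  by_cases hs : sh r = true
  · exact phi_map_short S ψ hψ h3 sh h hh da db dN hr hs t
  · exact phi_map_long S ψ hψ h3 sh h da db dN hdec hr (by simpa using hs) t

end phi

end Cfsg.Agent.Lib.Helper29.B2F3
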