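import Cfsg.Agent.Lib.Helper29.B2F3.Phi

set_option autoImplicit false

/-! S2400, the case `B₂` over the field with three elements: additivity and torus equivariance of
the lifts `phi`, and the relations (R2) for the four kinds of pairs of roots. -/

namespace Cfsg.Agent.Lib.Helper29.B2F3

open Cfsg.Lie Cfsg.Agent.Lib.Helper8.Chev Cfsg.Agent.Lib.Helper14.StCC
open Cfsg.Agent.Lib.Helper14.StCC.B Cfsg.Agent.Lib.Helper11.StCCPairing
open scoped commutatorElement

variable {D : ChevalleyDatum} {K : Type*} [Field K] {Γ : Type*} [Group Γ] {E : Type*} [Group E]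

section rel

variable (S : StRep D K Γ) (ψ : E →* Γ) (hψ : Function.Surjective ψ)
  (hc : ψ.ker ≤ Subgroup.center E) (hK3 : ∀ x : K, x = 0 ∨ x = 1 ∨ x = -1) (h3 : (3 : K) = 0)
  (sh : ℕ → Bool) (h : Γ)
  (hh : ∀ s < D.nroots, ∀ u : K, h * S.x s u * h⁻¹ = S.x s (if sh s = true then -u else u))
  (da db : ℕ → ℕ) (dN : ℕ → ℤ)
  (hdec : ∀ s < D.nroots, sh s = false → DecOK D sh s (da s) (db s) (dN s))
  (hnil : ∀ r s : ℕ, NilP D r s → LC S ψ r s)

include hc hK3 h3 hh hdec hnil in
theorem phi_add {r : ℕ} (hr : r < D.nroots) (t u : K) :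
    phi S ψ hψ sh h da db dN r t * phi S ψ hψ sh h da db dN r u =
      phi S ψ hψ sh h da db dN r (t + u) := by
  by_cases hs : sh r = true
  · have hm := phi_map_short S ψ hψ h3 sh h hh da db dN hr hs u
    unfold phi at hm ⊢
    rw [if_pos hs] at hm ⊢
    rw [if_pos hs, if_pos hs]
    obtain ⟨B, hB⟩ := hψ (S.x r t)
    rw [← S.add r hr, pr_mul_right' ψ hψ hc _ _ _ hB]
    congr 1
    have := lc_self S ψ hψ hc hK3 hr B _ t u hB hm
    rw [this, mul_inv_cancel_right]
  · have hs' : sh r = false := by simpa using hs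
    obtain ⟨ha, hb, hba, hbna, hT, hN, sha, shb, nsa, nsb⟩ := hdec r hr hs'
    unfold phi
    rw [if_neg hs, if_neg hs, if_neg hs]
    have e : -((t + u) / (dN r : K)) = -(t / dN r) + -(u / dN r) := by ring
    rw [e, pP_add_right S ψ hψ hc ha hb hba hbna hT hr (hnil _ _ nsa).symm]

include hc hK3 h3 hh hdec hnil in
theorem phi_zero {r : ℕ} (hr : r < D.nroots) : phi S ψ hψ sh h da db dN r 0 = 1 :=
  map_zero_of_add _ (phi_add S ψ hψ hc hK3 h3 sh h hh da db dN hdec hnil hr)

include hc hK3 h3 hh hdec hnil in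
theorem phi_inv {r : ℕ} (hr : r < D.nroots) (t : K) :
    (phi S ψ hψ sh h da db dN r t)⁻¹ = phi S ψ hψ sh h da db dN r (-t) := by
  apply inv_eq_of_mul_eq_one_right
  rw [phi_add S ψ hψ hc hK3 h3 sh h hh da db dN hdec hnil hr, add_neg_cancel,
    phi_zero S ψ hψ hc hK3 h3 sh h hh da db dN hdec hnil hr]

include hc hK3 hh hdec hnil in
/-- equivariance under a lift of the torus element -/
theorem phi_conj {g : E} (hg : ψ g = h) {r : ℕ} (hr : r < D.nroots) (t : K) :
    g * phi S ψ hψ sh h da db dN r t * g⁻¹ =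
      phi S ψ hψ sh h da db dN r (if sh r = true then -t else t) := by
  by_cases hs : sh r = true
  · unfold phi
    rw [if_pos hs, if_pos hs, conj_pr ψ hψ hc, hg, hh r hr, if_pos hs,
      mul_inv_cancel_right]
  · have hs' : sh r = false := by simpa using hs
    obtain ⟨ha, hb, hba, hbna, hT, hN, sha, shb, nsa, nsb⟩ := hdec r hr hs'
    unfold phi
    rw [if_neg hs, if_neg hs, if_neg hs]
    have e1 : h * (S.x (db r) 1)⁻¹ * h⁻¹ = (S.x (db r) (-1))⁻¹ := by
      have := hh (db r) hb 1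
      rw [if_pos shb] at this
      rw [← this]; group
    have e2 : ∀ x : K, h * (S.x (da r) x)⁻¹ * h⁻¹ = (S.x (da r) (-x))⁻¹ := by
      intro x
      have := hh (da r) ha x
      rw [if_pos sha] at this
      rw [← this]; group
    have := conj_pr ψ hψ hc g (S.x (db r) 1)⁻¹ (S.x (da r) (-(t / dN r)))⁻¹
    rw [hg, e1, e2] at this
    unfold pP
    rw [this]
    have hss := lc_self S ψ hψ hc hK3 hr
    have p1 := pP_neg_left S ψ hψ hc ha hb hba hbna hT hr (hnil _ _ nsb).symm hss 1
      (-(-(t / dN r)))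
    have p2 := pP_neg_right S ψ hψ hc ha hb hba hbna hT hr (hnil _ _ nsa).symm 1
      (-(t / dN r))
    unfold pP at p1 p2
    rw [p1, p2, inv_inv]

include h3 hh hdec hnil in
/-- (R2) for a pair without commutator terms -/
theorem rel_nil {r s : ℕ} (hn : NilP D r s) (t u : K) :
    phi S ψ hψ sh h da db dN s u * phi S ψ hψ sh h da db dN r t =
      phi S ψ hψ sh h da db dN r t * phi S ψ hψ sh h da db dN s u *
        wS (phi S ψ hψ sh h da db dN) (D.commWord K r s t u) := by
  have hT := hn.2.2.2.2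
  rw [ChevalleyDatum.commWord, hT, List.map_nil, wS_nil, mul_one]
  exact (hnil r s hn _ _ t u (phi_map S ψ hψ h3 sh h hh da db dN hdec hn.1 t)
    (phi_map S ψ hψ h3 sh h hh da db dN hdec hn.2.1 u)).symm

include hc hK3 h3 hh hdec hnil in
/-- (R2) for the pair `(a, b)` of the decomposition of a long root `q` -/
theorem rel_one {q : ℕ} (hq : q < D.nroots) (hs : sh q = false) (t u : K) :
    phi S ψ hψ sh h da db dN (db q) u * phi S ψ hψ sh h da db dN (da q) t =
      phi S ψ hψ sh h da db dN (da q) t * phi S ψ hψ sh h da db dN (db q) u *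
        phi S ψ hψ sh h da db dN q ((dN q : K) * (-t) * u) := by
  obtain ⟨ha, hb, hba, hbna, hT, hN, sha, shb, nsa, nsb⟩ := hdec q hq hs
  have hN0 := cast_ne_zero_of (K := K) h3 hN
  have hma := phi_map S ψ hψ h3 sh h hh da db dN hdec ha t
  have hmb := phi_map S ψ hψ h3 sh h hh da db dN hdec hb u
  have e1 : (phi S ψ hψ sh h da db dN (da q) t * phi S ψ hψ sh h da db dN (db q) u)⁻¹ *
      (phi S ψ hψ sh h da db dN (db q) u * phi S ψ hψ sh h da db dN (da q) t) =
      pP S ψ hψ (da q) (db q) u t := by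
    unfold pP
    rw [pr_eq ψ hψ hc (a := (phi S ψ hψ sh h da db dN (db q) u)⁻¹)
      (b := (phi S ψ hψ sh h da db dN (da q) t)⁻¹) (by rw [map_inv, hmb]) (by rw [map_inv, hma]),
      commutatorElement_def]
    group
  have e2 : phi S ψ hψ sh h da db dN q ((dN q : K) * (-t) * u) =
      pP S ψ hψ (da q) (db q) 1 (t * u) := by
    unfold phi
    rw [if_neg (by rw [hs]; simp)]
    congr 1
    field_simp
  rw [e2, ← pP_eq S ψ hψ hc ha hb hba hbna hT hK3 hq (hnil _ _ nsa).symm (hnil _ _ nsb).symm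
    (lc_self S ψ hψ hc hK3 hq), ← e1]
  group

include hc hK3 h3 hh hdec hnil in
/-- (R2) for the reversed pair `(b, a)` of the decomposition of a long root `q` -/
theorem rel_one' {q : ℕ} (hq : q < D.nroots) (hs : sh q = false) (t u : K) :
    phi S ψ hψ sh h da db dN (da q) u * phi S ψ hψ sh h da db dN (db q) t =
      phi S ψ hψ sh h da db dN (db q) t * phi S ψ hψ sh h da db dN (da q) u *
        phi S ψ hψ sh h da db dN q ((-dN q : K) * (-t) * u) := by
  have h1 := rel_one S ψ hψ hc hK3 h3 sh h hh da db dN hdec hnil hq hs u t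
  have e : ((-dN q : K) * (-t) * u) = -((dN q : K) * (-u) * t) := by ring
  rw [e, ← phi_inv S ψ hψ hc hK3 h3 sh h hh da db dN hdec hnil hq, h1]
  group

end rel

end Cfsg.Agent.Lib.Helper29.B2F3
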