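import Cfsg.Agent.Lib.Helper29.B2F3.Rel

set_option autoImplicit false

/-! S2400, the case `B₂` over the field with three elements: the relations (R2) for the pairs with
two commutator terms, and the assembly of (R2) for all admissible pairs from the classification
of the pairs (table facts about the datum). -/

namespace Cfsg.Agent.Lib.Helper29.B2F3

open Cfsg.Lie Cfsg.Agent.Lib.Helper8.Chev Cfsg.Agent.Lib.Helper14.StCC
open Cfsg.Agent.Lib.Helper14.StCC.B Cfsg.Agent.Lib.Helper11.StCCPairing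
open scoped commutatorElement

variable {D : ChevalleyDatum} {K : Type*} [Field K] {Γ : Type*} [Group Γ] {E : Type*} [Group E]

/-- the pair `(r, s)` is, in one of the two orders, the pair of the decomposition of a long root -/
def OneP' (D : ChevalleyDatum) (sh : ℕ → Bool) (da db : ℕ → ℕ) (dN : ℕ → ℤ) (r s : ℕ) : Prop :=
  ∃ q < D.nroots, sh q = false ∧
    ((da q = r ∧ db q = s ∧ D.commTerms r s = [(q, dN q, 1, 1)]) ∨
     (da q = s ∧ db q = r ∧ D.commTerms r s = [(q, -dN q, 1, 1)]))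

/-- (long `r`, short `s`) with two commutator terms -/
def TwoP (D : ChevalleyDatum) (sh : ℕ → Bool) (r s : ℕ) : Prop :=
  sh r = false ∧ sh s = true ∧ ∃ p < D.nroots, ∃ q < D.nroots, ∃ C1 ∈ ([1, -1] : List ℤ),
    ∃ C2 ∈ ([1, -1] : List ℤ), ∃ M ∈ ([2, -2] : List ℤ),
    D.commTerms r s = [(p, C1, 1, 1), (q, C2, 1, 2)] ∧ sh p = true ∧ sh q = false ∧
    NilP D q s ∧ NilP D q p ∧ p ≠ s ∧ p ≠ D.neg s ∧ D.commTerms s p = [(q, M, 1, 1)] ∧
    M * C1 = -2 * C2

/-- (short `r`, long `s`) with two commutator terms -/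
def TwoP' (D : ChevalleyDatum) (sh : ℕ → Bool) (r s : ℕ) : Prop :=
  sh r = true ∧ sh s = false ∧ r ≠ D.neg s ∧ TwoP D sh s r ∧ ∃ p < D.nroots, ∃ q < D.nroots, ∃ C1 ∈ ([1, -1] : List ℤ),
    ∃ C2 ∈ ([1, -1] : List ℤ),
    D.commTerms r s = [(p, C1, 1, 1), (q, C2, 2, 1)] ∧
    D.commTerms s r = [(p, -C1, 1, 1), (q, C2, 1, 2)] ∧ NilP D p q

/-- a commuting pair of long roots, with the data of the generalised commutator trick -/
def LLP (D : ChevalleyDatum) (sh : ℕ → Bool) (r s : ℕ) : Prop :=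
  sh r = false ∧ sh s = false ∧ ∃ a < D.nroots, ∃ b < D.nroots, ∃ N ∈ ([2, -2] : List ℤ),
    b ≠ a ∧ b ≠ D.neg a ∧ D.commTerms a b = [(s, N, 1, 1)] ∧ NilP D r a ∧ sh a = true ∧
    b ≠ r ∧ b ≠ D.neg r ∧
    ∀ c ∈ D.commTerms r b, c.1 = a ∨ (NilP D c.1 a ∧ sh c.1 = false)

/-- the classification of the pairs without commutator terms -/
def NilOK (D : ChevalleyDatum) (sh : ℕ → Bool) (r s : ℕ) : Prop :=
  (sh r = false ∧ sh s = true) ∨ (sh r = true ∧ sh s = false ∧ NilP D s r) ∨ LLP D sh r s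

section nil

variable (S : StRep D K Γ) (ψ : E →* Γ) (hψ : Function.Surjective ψ)
  (hc : ψ.ker ≤ Subgroup.center E) (hK3 : ∀ x : K, x = 0 ∨ x = 1 ∨ x = -1) (h3 : (3 : K) = 0)
  (sh : ℕ → Bool) (h : Γ)
  (hh : ∀ s < D.nroots, ∀ u : K, h * S.x s u * h⁻¹ = S.x s (if sh s = true then -u else u))

include hψ hc h3 hh in
theorem lc_mixed' {r s : ℕ} (hn : NilP D r s) (hr : sh r = false) (hs : sh s = true) :
    LC S ψ r s := by
  apply lc_mixed S ψ hψ hc h3 hn h
  · intro t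
    rw [hh r hn.1, if_neg (by rw [hr]; simp)]
  · intro u
    rw [hh s hn.2.1, if_pos hs]

include hψ hc hK3 h3 hh in
/-- all pairs without commutator terms strongly commute -/
theorem lc_nil (hcl : ∀ r s : ℕ, NilP D r s → NilOK D sh r s) :
    ∀ r s : ℕ, NilP D r s → LC S ψ r s := by
  intro r s hn
  rcases hcl r s hn with ⟨hr, hs⟩ | ⟨hr, hs, hn'⟩ |
    ⟨hr, hs, a, ha, b, hb, N, hN, hba, hbna, hT, nra, sha, hbr, hbnr, hW⟩
  · exact lc_mixed' S ψ hψ hc h3 sh h hh hn hr hs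
  · exact (lc_mixed' S ψ hψ hc h3 sh h hh hn' hs hr).symm
  · have hN' : N = 2 ∨ N = -2 := by simpa using hN
    refine lc_dec S ψ hψ hc hn.1 ha hb hba hbna hT (cast_ne_zero_of h3 hN')
      (lc_mixed' S ψ hψ hc h3 sh h hh nra hr sha) hbr hbnr ?_
    intro c hc'
    rcases hW c hc' with hca | ⟨hn2, hs2⟩
    · rw [hca]
      exact lc_self S ψ hψ hc hK3 ha
    · exact lc_mixed' S ψ hψ hc h3 sh h hh hn2 hs2 sha

end nil

section two

variable (S : StRep D K Γ) (ψ : E →* Γ) (hψ : Function.Surjective ψ)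
  (hc : ψ.ker ≤ Subgroup.center E) (hK3 : ∀ x : K, x = 0 ∨ x = 1 ∨ x = -1) (h3 : (3 : K) = 0)
  (sh : ℕ → Bool) (h : Γ)
  (hh : ∀ s < D.nroots, ∀ u : K, h * S.x s u * h⁻¹ = S.x s (if sh s = true then -u else u))
  (da db : ℕ → ℕ) (dN : ℕ → ℤ)
  (hdec : ∀ s < D.nroots, sh s = false → DecOK D sh s (da s) (db s) (dN s))
  (hnil : ∀ r s : ℕ, NilP D r s → LC S ψ r s)

/-- the relation (R2) for the pair `(r, s)` -/
def R2 (D : ChevalleyDatum) (K : Type*) [Field K] {E : Type*} [Group E] (φ : ℕ → K → E)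
    (r s : ℕ) : Prop :=
  ∀ t u : K, φ s u * φ r t = φ r t * φ s u * wS φ (D.commWord K r s t u)

include hc hK3 h3 hh hdec hnil in
theorem r2_one {r s : ℕ} (ho : OneP' D sh da db dN r s) :
    R2 D K (phi S ψ hψ sh h da db dN) r s := by
  obtain ⟨q, hq, hs, ⟨rfl, rfl, hT⟩ | ⟨rfl, rfl, hT⟩⟩ := ho
  · intro t u
    rw [ChevalleyDatum.commWord, hT]
    simp only [List.map_cons, List.map_nil, wS_cons, wS_nil, mul_one, pow_one]
    exact rel_one S ψ hψ hc hK3 h3 sh h hh da db dN hdec hnil hq hs t u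
  · intro t u
    rw [ChevalleyDatum.commWord, hT]
    simp only [List.map_cons, List.map_nil, wS_cons, wS_nil, mul_one, pow_one]
    have := rel_one' S ψ hψ hc hK3 h3 sh h hh da db dN hdec hnil hq hs t u
    rw [this]
    push_cast
    rfl

include hc hK3 h3 hh hdec hnil in
theorem r2_two {r s : ℕ} (hr : r < D.nroots) (hs : s < D.nroots) (h1 : s ≠ r)
    (h2 : s ≠ D.neg r) (htw : TwoP D sh r s)
    (hone : ∀ a b : ℕ, OneP' D sh da db dN a b → R2 D K (phi S ψ hψ sh h da db dN) a b)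
    (hcl : ∀ a b : ℕ, a < D.nroots → b < D.nroots → b ≠ a → b ≠ D.neg a →
      (∃ q C, D.commTerms a b = [(q, C, 1, 1)]) → OneP' D sh da db dN a b) :
    R2 D K (phi S ψ hψ sh h da db dN) r s := by
  obtain ⟨shr, shs, p, hp, q, hq, C1, -, C2, -, M, -, hT, shp, shq, nqs, nqp, hps, hpns, hT', hM⟩ :=
    htw
  obtain ⟨g, hg⟩ := hψ h
  have ho := hone s p (hcl s p hs hp hps hpns ⟨q, M, hT'⟩)
  have hm := fun {a : ℕ} (ha : a < D.nroots) (x : K) =>
    phi_map S ψ hψ h3 sh h hh da db dN hdec ha x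
  intro t u
  rw [ChevalleyDatum.commWord, hT]
  simp only [List.map_cons, List.map_nil, wS_cons, wS_nil, mul_one, pow_one]
  apply two_term_core h3 (phi S ψ hψ sh h da db dN r) (phi S ψ hψ sh h da db dN s)
    (phi S ψ hψ sh h da db dN p) (phi S ψ hψ sh h da db dN q) g
    (phi_add S ψ hψ hc hK3 h3 sh h hh da db dN hdec hnil hs)
    (phi_add S ψ hψ hc hK3 h3 sh h hh da db dN hdec hnil hp)
    (phi_add S ψ hψ hc hK3 h3 sh h hh da db dN hdec hnil hq)
    (fun x y => hnil q s nqs _ _ x y (hm hq x) (hm hs y))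
    (fun x y => hnil q p nqp _ _ x y (hm hq x) (hm hp y))
    (C1 : K) (C2 : K) (M : K) (by exact_mod_cast congrArg (Int.cast (R := K)) hM)
  · intro u x
    have := ho u x
    rw [ChevalleyDatum.commWord, hT'] at this
    simpa only [List.map_cons, List.map_nil, wS_cons, wS_nil, mul_one, pow_one] using this
  · intro t u
    apply hc
    rw [MonoidHom.mem_ker]
    simp only [map_mul, map_inv]
    rw [hm hr, hm hs, hm hp, hm hq]
    have := S.comm r hr s hs h1 h2 t u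
    rw [ChevalleyDatum.commWord, hT] at this
    simp only [List.map_cons, List.map_nil, wS_cons, wS_nil, mul_one, pow_one] at this
    rw [this]
    group
  · intro t
    rw [phi_conj S ψ hψ hc hK3 sh h hh da db dN hdec hnil hg hr, if_neg (by rw [shr]; simp)]
  · intro u
    rw [phi_conj S ψ hψ hc hK3 sh h hh da db dN hdec hnil hg hs, if_pos shs]
  · intro x
    rw [phi_conj S ψ hψ hc hK3 sh h hh da db dN hdec hnil hg hp, if_pos shp]
  · intro y
    rw [phi_conj S ψ hψ hc hK3 sh h hh da db dN hdec hnil hg hq, if_neg (by rw [shq]; simp)]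

include hc hK3 h3 hh hdec hnil in
theorem r2_two' {r s : ℕ} (hr : r < D.nroots) (hs : s < D.nroots) (htw : TwoP' D sh r s)
    (hrev : R2 D K (phi S ψ hψ sh h da db dN) s r) :
    R2 D K (phi S ψ hψ sh h da db dN) r s := by
  obtain ⟨shr, shs, -, -, p, hp, q, hq, C1, -, C2, -, hT, hT', npq⟩ := htw
  have hm := fun {a : ℕ} (ha : a < D.nroots) (x : K) =>
    phi_map S ψ hψ h3 sh h hh da db dN hdec ha x
  intro t u
  have := hrev u t
  rw [ChevalleyDatum.commWord, hT'] at this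
  simp only [List.map_cons, List.map_nil, wS_cons, wS_nil, mul_one, pow_one] at this
  rw [ChevalleyDatum.commWord, hT]
  simp only [List.map_cons, List.map_nil, wS_cons, wS_nil, mul_one, pow_one]
  have hpq := hnil p q npq _ _ ((-C1 : ℤ) * (-u) * t : K) ((C2 : ℤ) * (-u) * t ^ 2 : K)
    (hm hp _) (hm hq _)
  have e1 : ((C1 : ℤ) : K) * (-t) * u = -(((-C1 : ℤ) : K) * (-u) * t) := by push_cast; ring
  have e2 : ((C2 : ℤ) : K) * (-t) ^ 2 * u = -(((C2 : ℤ) : K) * (-u) * t ^ 2) := by ring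
  rw [e1, e2, ← phi_inv S ψ hψ hc hK3 h3 sh h hh da db dN hdec hnil hp,
    ← phi_inv S ψ hψ hc hK3 h3 sh h hh da db dN hdec hnil hq, this]
  have hpq' : (phi S ψ hψ sh h da db dN p (((-C1 : ℤ) : K) * (-u) * t))⁻¹ *
      (phi S ψ hψ sh h da db dN q (((C2 : ℤ) : K) * (-u) * t ^ 2))⁻¹ =
      (phi S ψ hψ sh h da db dN p (((-C1 : ℤ) : K) * (-u) * t) *
        phi S ψ hψ sh h da db dN q (((C2 : ℤ) : K) * (-u) * t ^ 2))⁻¹ := by
    rw [hpq]; group
  rw [hpq']
  group

end two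

end Cfsg.Agent.Lib.Helper29.B2F3
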